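import Cfsg.Agent.Lib.FischerOrthModels51.Basic
import Cfsg.Agent.Lib.FischerMTypes.Unique
import Cfsg.Agent.Lib.FischerThm.Defs

/-!
# Point models and projective reflection groups

A generating class of involutions of a centreless group with a point model is the class of reflections
of the projective reflection group, and conversely; the model of the local class is one of the perp set.
-/

set_option autoImplicit false

universe u

namespace Cfsg.Agent.Lib.FischerOrthModels51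

open QuadraticMap Cfsg.Agent.Lib.Forms
open Cfsg.Agent.Lib.Forms.SquareClass (classSet orefl_smul)
open Cfsg.Agent.Lib.ThreeTranspositions.ReflectThree
open Cfsg.Agent.Lib.FischerMTypes

theorem sub_three {M : Type*} [AddCommGroup M] [Module (ZMod 3) M] (x : M) : x + x = -x := by
  rw [← two_smul (ZMod 3) x, show (2 : ZMod 3) = -1 from rfl, neg_one_smul]

variable {n : ℕ} {Q : QuadraticForm (ZMod 3) (Fin n → ZMod 3)} {c : ZMod 3}

theorem orefl_neg (v : Fin n → ZMod 3) : orefl Q (-v) = orefl Q v := by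
  rw [← neg_one_smul (ZMod 3) v]
  exact orefl_smul (neg_ne_zero.2 one_ne_zero) v

theorem orefl_eq_of_pm {u v : Fin n → ZMod 3} (h : u = v ∨ u = -v) : orefl Q u = orefl Q v := by
  rcases h with rfl | rfl
  exacts [rfl, orefl_neg v]

/-- A reflection determines its centre up to sign. -/
theorem pm_of_orefl_eq {u v : Fin n → ZMod 3} (hc : c ≠ 0) (hu : Q u = c)
    (h : orefl Q u = orefl Q v) : u = v ∨ u = -v := by
  have hu0 : Q u ≠ 0 := hu ▸ hc
  have h1 : (orefl Q v).1 u = -u := by rw [← h]; exact refl_self Q hu0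
  rw [orefl_apply, sub_eq_iff_eq_add, ← sub_eq_iff_eq_add', sub_neg_eq_add, sub_three] at h1
  have hs : ((Q v)⁻¹ * polar Q v u) ≠ 0 := fun h0 => hu0 (by
    rw [h0, zero_smul, neg_eq_zero] at h1
    rw [h1, QuadraticMap.map_zero])
  rcases mul_self_eq_one_iff.1 (sq_eq_one _ hs) with e | e <;> rw [e] at h1
  · rw [one_smul] at h1; exact Or.inr (by rw [← h1, neg_neg])
  · rw [neg_one_smul, neg_inj] at h1; exact Or.inl h1

section ToIso

variable {G : Type u} [Group G] {E : Set G} {rt : G → Fin n → ZMod 3}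

/-- `g` acts on the points as `h` does. -/
def ActsAs (E : Set G) (rt : G → Fin n → ZMod 3) (g : G) (h : orth Q) : Prop :=
  ∀ e ∈ E, g * e * g⁻¹ ∈ E ∧ (rt (g * e * g⁻¹) = h.1 (rt e) ∨ rt (g * e * g⁻¹) = -h.1 (rt e))

theorem actsAs_one : ActsAs (Q := Q) E rt 1 1 := fun e he => by
  refine ⟨by simpa using he, Or.inl ?_⟩
  simp

theorem actsAs_mul {g g' : G} {h h' : orth Q} (hg : ActsAs E rt g h) (hg' : ActsAs E rt g' h') :
    ActsAs E rt (g * g') (h * h') := fun e he => by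
  obtain ⟨m, p⟩ := hg' e he
  obtain ⟨m', p'⟩ := hg _ m
  have e1 : g * g' * e * (g * g')⁻¹ = g * (g' * e * g'⁻¹) * g⁻¹ := by group
  rw [e1]
  refine ⟨m', ?_⟩
  show _ = h.1 (h'.1 _) ∨ _ = -h.1 (h'.1 _)
  rcases p with p | p <;> rcases p' with p' | p' <;> rw [p'] <;> rw [p]
  · exact Or.inl rfl
  · exact Or.inr rfl
  · exact Or.inr (map_neg _ _)
  · exact Or.inl (by rw [map_neg, neg_neg])

variable (hp : Pts E Q c rt) (hinv : ∀ e ∈ E, e * e = 1) (hgen : Subgroup.closure E = ⊤)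
  (hZ : Subgroup.center G = ⊥)

include hp hinv

theorem actsAs_self {e : G} (he : e ∈ E) : ActsAs E rt e (orefl Q (rt e)) := fun e' he' => by
  rw [inv_eq_of_mul_eq_one_right (hinv e he)]
  exact ⟨hp.closed e he e' he', hp.conj e he e' he'⟩

theorem actsAs_inv_self {e : G} (he : e ∈ E) : ActsAs E rt e⁻¹ (orefl Q (rt e))⁻¹ := by
  rw [inv_eq_of_mul_eq_one_right (hinv e he), orefl_inv]
  exact actsAs_self hp hinv he

include hgen hZ

omit hinv in
theorem actsAs_unique {g g' : G} {h : orth Q} (hg : ActsAs E rt g h) (hg' : ActsAs E rt g' h) : g = g' := by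
  have key : ∀ e ∈ E, g * e * g⁻¹ = g' * e * g'⁻¹ := fun e he => by
    refine hp.inj _ (hg' e he).1 _ (hg e he).1 ?_
    rcases (hg e he).2 with a | a <;> rcases (hg' e he).2 with b | b <;> rw [a, b]
    · exact Or.inl rfl
    · exact Or.inr (neg_neg _).symm
    · exact Or.inr rfl
    · exact Or.inl rfl
  have h1 : g'⁻¹ * g ∈ Subgroup.centralizer (Subgroup.closure E : Set G) := by
    rw [Subgroup.centralizer_closure, Subgroup.mem_centralizer_iff]
    intro e he
    calc e * (g'⁻¹ * g) = g'⁻¹ * (g' * e * g'⁻¹) * g := by group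
      _ = g'⁻¹ * g * e := by rw [← key e he]; group
  rw [hgen, Subgroup.coe_top, Subgroup.centralizer_univ, hZ, Subgroup.mem_bot] at h1
  exact (inv_mul_eq_one.1 h1).symm

omit hgen hZ in
theorem exists_actsAs_refl (x : ↥(Cfsg.reflectionSubgroup (⇑Q) c)) :
    ∃ g : G, ActsAs E rt g (toOrthHom Q c x) := by
  obtain ⟨x, hx⟩ := x
  show ∃ g : G, ActsAs E rt g (toOrth Q x)
  have gen : ∀ y ∈ Cfsg.reflectionsOfNorm (⇑Q) c, ∃ e ∈ E, toOrth Q y = orefl Q (rt e) := fun y hy => by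
    obtain ⟨v, hv, hyv⟩ := mem_classSet.1 ((mem_reflectionsOfNorm Q c).1 hy)
    obtain ⟨e, he, hev⟩ := hp.surj v hv
    exact ⟨e, he, hyv.trans (orefl_eq_of_pm hev).symm⟩
  induction hx using Subgroup.closure_induction_left with
  | one => exact ⟨1, by rw [map_one]; exact actsAs_one⟩
  | mul_left y hy z _ ih =>
    obtain ⟨e, he, hye⟩ := gen y hy
    obtain ⟨g, hg⟩ := ih
    exact ⟨e * g, by rw [map_mul, hye]; exact actsAs_mul (actsAs_self hp hinv he) hg⟩
  | inv_mul_cancel y hy z _ ih =>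
    obtain ⟨e, he, hye⟩ := gen y hy
    obtain ⟨g, hg⟩ := ih
    exact ⟨e⁻¹ * g, by rw [map_mul, map_inv, hye]; exact actsAs_mul (actsAs_inv_self hp hinv he) hg⟩

/-- The reflection centred at the point of a member. -/
theorem exists_refl {e : G} (he : e ∈ E) :
    ∃ x : ↥(Cfsg.reflectionSubgroup (⇑Q) c), (x : ↥(Cfsg.isometryGroup (ZMod 3) (⇑Q))) ∈
      Cfsg.reflectionsOfNorm (⇑Q) c ∧ toOrthHom Q c x = orefl Q (rt e) := by
  have hm : irefl Q (rt e) ∈ Cfsg.reflectionsOfNorm (⇑Q) c := ⟨rt e, hp.norm e he, irefl_coe Q _⟩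
  exact ⟨⟨_, Subgroup.subset_closure hm⟩, hm, toOrth_irefl Q _⟩

/-- A centreless group generated by a class with a point model is the projective reflection group. -/
theorem Pts.isOrth3With (hQ : (QuadraticMap.polarBilin Q).Nondegenerate) (hc : c ≠ 0) :
    FischerThm.IsOrth3With E Q c := by
  refine ⟨hQ, hc, ?_⟩
  choose p hpa using exists_actsAs_refl hp hinv (c := c)
  let π : ↥(Cfsg.reflectionSubgroup (⇑Q) c) →* G := MonoidHom.mk' p fun x y =>
    actsAs_unique hp hgen hZ (hpa _) (by rw [map_mul]; exact actsAs_mul (hpa x) (hpa y))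
  have hπ : ∀ x, ActsAs E rt (π x) (toOrthHom Q c x) := hpa
  have himg : π '' {g | (g : ↥(Cfsg.isometryGroup (ZMod 3) (⇑Q))) ∈ Cfsg.reflectionsOfNorm (⇑Q) c} = E := by
    refine Set.Subset.antisymm ?_ fun e he => ?_
    · rintro _ ⟨x, hx, rfl⟩
      obtain ⟨v, hv, hxv⟩ := mem_classSet.1 ((mem_reflectionsOfNorm Q c).1 hx)
      obtain ⟨e, he, hev⟩ := hp.surj v hv
      rw [show π x = e from actsAs_unique hp hgen hZ (hπ x) (by
        rw [show toOrthHom Q c x = orefl Q v from hxv, ← orefl_eq_of_pm hev]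
        exact actsAs_self hp hinv he)]
      exact he
    · obtain ⟨x, hx, hxe⟩ := exists_refl hp hinv hgen hZ he
      exact ⟨x, hx, actsAs_unique hp hgen hZ (hπ x) (hxe ▸ actsAs_self hp hinv he)⟩
  have hsurj : Function.Surjective π := by
    rw [← MonoidHom.range_eq_top, eq_top_iff, ← hgen, Subgroup.closure_le, ← himg]
    exact Set.image_subset_range _ _
  have hker : Subgroup.center ↥(Cfsg.reflectionSubgroup (⇑Q) c) = π.ker := by
    refine le_antisymm (fun x hx => ?_) fun x hx => ?_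
    · rw [MonoidHom.mem_ker, ← Subgroup.mem_bot, ← hZ, Subgroup.mem_center_iff]
      intro g
      obtain ⟨y, rfl⟩ := hsurj g
      rw [← map_mul, ← map_mul, Subgroup.mem_center_iff.1 hx y]
    · have ha := hπ x
      rw [MonoidHom.mem_ker.1 hx] at ha
      set h := toOrthHom Q c x with hh
      have hfix : ∀ v, Q v = c → h * orefl Q v = orefl Q v * h := fun v hv => by
        obtain ⟨e, he, hev⟩ := hp.surj v hv
        have h1 := (ha e he).2
        rw [one_mul, inv_one, mul_one] at h1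
        have h2 : orefl Q (h.1 (rt e)) = orefl Q (rt e) := (orefl_eq_of_pm h1).symm
        rw [← orefl_eq_of_pm hev, ← mul_inv_eq_iff_eq_mul, conj_orefl, h2]
      have h3 : h ∈ Subgroup.centralizer (Subgroup.closure (classSet Q c) : Set (orth Q)) := by
        rw [Subgroup.centralizer_closure, Subgroup.mem_centralizer_iff]
        intro y hy
        obtain ⟨v, hv, rfl⟩ := mem_classSet.1 hy
        exact (hfix v hv).symm
      rw [Subgroup.mem_center_iff]
      intro y
      refine toOrthHom_injective Q c ?_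
      rw [map_mul, map_mul]
      refine Subgroup.mem_centralizer_iff.1 h3 _ ?_
      rw [SetLike.mem_coe, ← range_toOrthHom]
      exact ⟨y, rfl⟩
  let f : ↥(Cfsg.reflectionSubgroup (⇑Q) c) ⧸ Subgroup.center ↥(Cfsg.reflectionSubgroup (⇑Q) c) ≃* G :=
    (QuotientGroup.quotientMulEquivOfEq hker).trans (QuotientGroup.quotientKerEquivOfSurjective π hsurj)
  have hf : ∀ x : ↥(Cfsg.reflectionSubgroup (⇑Q) c), f (QuotientGroup.mk x) = π x := fun x => rfl
  refine ⟨f.symm, ?_⟩
  conv_lhs => rw [← himg]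
  rw [Set.image_image]
  refine Set.image_congr fun x _ => ?_
  rw [← hf, MulEquiv.symm_apply_apply]

end ToIso

section OfIso

variable (hQ : Nondeg Q) (hn : 5 ≤ n) (hc : c ≠ 0)

include hQ hn hc

/-- The class in the reflection subgroup. -/
theorem pts_refl : ∃ rt, Pts {g : ↥(Cfsg.reflectionSubgroup (⇑Q) c) |
      (g : ↥(Cfsg.isometryGroup (ZMod 3) (⇑Q))) ∈ Cfsg.reflectionsOfNorm (⇑Q) c} Q c rt := by
  classical
  have hex : ∀ g : ↥(Cfsg.reflectionSubgroup (⇑Q) c),
      ∃ v, (g : ↥(Cfsg.isometryGroup (ZMod 3) (⇑Q))) ∈ Cfsg.reflectionsOfNorm (⇑Q) c →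
        Q v = c ∧ toOrthHom Q c g = orefl Q v := fun g => by
    by_cases h : (g : ↥(Cfsg.isometryGroup (ZMod 3) (⇑Q))) ∈ Cfsg.reflectionsOfNorm (⇑Q) c
    · obtain ⟨v, hv, hgv⟩ := mem_classSet.1 ((mem_reflectionsOfNorm Q c).1 h)
      exact ⟨v, fun _ => ⟨hv, hgv⟩⟩
    · exact ⟨0, fun h' => absurd h' h⟩
  choose rt hrt using hex
  have hclosed : ∀ a : ↥(Cfsg.reflectionSubgroup (⇑Q) c),
      (a : ↥(Cfsg.isometryGroup (ZMod 3) (⇑Q))) ∈ Cfsg.reflectionsOfNorm (⇑Q) c →
      ∀ b : ↥(Cfsg.reflectionSubgroup (⇑Q) c),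
      (b : ↥(Cfsg.isometryGroup (ZMod 3) (⇑Q))) ∈ Cfsg.reflectionsOfNorm (⇑Q) c →
      toOrthHom Q c (a * b * a) = orefl Q ((orefl Q (rt a)).1 (rt b)) := fun a ha b hb => by
    obtain ⟨h1, h2⟩ := hrt a ha
    obtain ⟨h3, h4⟩ := hrt b hb
    rw [map_mul, map_mul, h2, h4, ← conj_orefl, orefl_inv]
  have hmem : ∀ a : ↥(Cfsg.reflectionSubgroup (⇑Q) c),
      (a : ↥(Cfsg.isometryGroup (ZMod 3) (⇑Q))) ∈ Cfsg.reflectionsOfNorm (⇑Q) c →
      ∀ b : ↥(Cfsg.reflectionSubgroup (⇑Q) c),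
      (b : ↥(Cfsg.isometryGroup (ZMod 3) (⇑Q))) ∈ Cfsg.reflectionsOfNorm (⇑Q) c →
      ((a * b * a : ↥(Cfsg.reflectionSubgroup (⇑Q) c)) : ↥(Cfsg.isometryGroup (ZMod 3) (⇑Q))) ∈
        Cfsg.reflectionsOfNorm (⇑Q) c := fun a ha b hb =>
    (mem_reflectionsOfNorm Q c).2 (mem_classSet.2
      ⟨_, ((orefl Q (rt a)).2 (rt b)).trans (hrt b hb).1, hclosed a ha b hb⟩)
  refine ⟨rt, fun e he => (hrt e he).1, fun v hv => ?_, fun e he e' he' h => ?_,
    fun e he e' he' hne => ?_, hmem, fun e he e' he' => ?_⟩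
  · have hm : irefl Q v ∈ Cfsg.reflectionsOfNorm (⇑Q) c := ⟨v, hv, irefl_coe Q v⟩
    refine ⟨⟨_, Subgroup.subset_closure hm⟩, hm, pm_of_orefl_eq hc (hrt ⟨_, _⟩ hm).1 ?_⟩
    exact ((hrt ⟨irefl Q v, Subgroup.subset_closure hm⟩ hm).2).symm.trans (toOrth_irefl Q v)
  · refine toOrthHom_injective Q c ?_
    rw [(hrt e he).2, (hrt e' he').2, orefl_eq_of_pm h]
  · have hne' : ¬ (rt e' = rt e ∨ rt e' = -rt e) := fun h => hne (toOrthHom_injective Q c (by
      rw [(hrt e he).2, (hrt e' he').2, orefl_eq_of_pm h]))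
    push Not at hne'
    constructor
    · intro h
      refine polar_eq_zero_of_commute ((hrt e he).1 ▸ hc) ((hrt e he).1.trans (hrt e' he').1.symm)
        hne'.1 hne'.2 ?_
      rw [← (hrt e he).2, ← (hrt e' he').2]
      exact h.map _
    · intro h
      refine toOrthHom_injective Q c ?_
      rw [map_mul, map_mul, (hrt e he).2, (hrt e' he').2]
      exact orefl_commute h
  · refine pm_of_orefl_eq hc (hrt _ (hmem e he e' he')).1 ?_
    rw [← (hrt _ (hmem e he e' he')).2]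
    exact hclosed e he e' he'

/-- The class is mapped one to one into the quotient by the centre. -/
theorem mk_injOn : Set.InjOn (QuotientGroup.mk : ↥(Cfsg.reflectionSubgroup (⇑Q) c) →
      ↥(Cfsg.reflectionSubgroup (⇑Q) c) ⧸ Subgroup.center ↥(Cfsg.reflectionSubgroup (⇑Q) c))
      {g | (g : ↥(Cfsg.isometryGroup (ZMod 3) (⇑Q))) ∈ Cfsg.reflectionsOfNorm (⇑Q) c} := by
  intro a ha b hb h
  by_contra hne
  have h5 := five_le hn
  have hT := threeClass hQ h5 hc (toOrthHom Q c) (toOrthHom_injective Q c) (range_toOrthHom Q c)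
  rw [← preimage_classSet] at hT
  obtain ⟨hD, ⟨d, hd, hconj⟩, hgen⟩ := hT
  have hab : Commute a b := (Basic.commute_mk_iff hD ha hb).1 (by rw [h])
  have hz := QuotientGroup.eq.1 h
  rw [Basic.inv_eq hD ha, Subgroup.mem_center_iff] at hz
  have hcen : a ∈ Subgroup.center _ := by
    rw [← Subgroup.centralizer_univ, ← Subgroup.coe_top, ← hgen, Subgroup.centralizer_closure,
      Subgroup.mem_centralizer_iff]
    intro x hx
    exact (Basic.comm_of_comm_mul hD ha hb hx hab hne (hz x)).1.eq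
  refine hne ?_
  rw [hconj] at ha hb
  obtain ⟨g, hg⟩ := isConj_iff.1 (ha : IsConj d a)
  obtain ⟨g', hg'⟩ := isConj_iff.1 (hb : IsConj d b)
  have hda : d = a := by
    have h1 := Subgroup.mem_center_iff.1 hcen g⁻¹
    rw [← hg] at h1 ⊢
    calc d = g⁻¹ * (g * d * g⁻¹) * g := by group
      _ = g * d * g⁻¹ := by rw [h1]; group
  rw [← hg', hda, Subgroup.mem_center_iff.1 hcen g', mul_inv_cancel_right]

theorem IsOrth3With.exists_pts {G : Type u} [Group G] {E : Set G} (h : FischerThm.IsOrth3With E Q c) :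
    ∃ rt, Pts E Q c rt := by
  classical
  obtain ⟨-, -, e, he⟩ := h
  obtain ⟨rt, hrt⟩ := pts_refl hQ hn hc
  have hinj := mk_injOn hQ hn hc
  have h5 := five_le hn
  have hT := threeClass hQ h5 hc (toOrthHom Q c) (toOrthHom_injective Q c) (range_toOrthHom Q c)
  rw [← preimage_classSet] at hT
  set C := {g : ↥(Cfsg.reflectionSubgroup (⇑Q) c) |
    (g : ↥(Cfsg.isometryGroup (ZMod 3) (⇑Q))) ∈ Cfsg.reflectionsOfNorm (⇑Q) c} with hC
  let mk := (QuotientGroup.mk : ↥(Cfsg.reflectionSubgroup (⇑Q) c) →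
      ↥(Cfsg.reflectionSubgroup (⇑Q) c) ⧸ Subgroup.center ↥(Cfsg.reflectionSubgroup (⇑Q) c))
  let f : G → ↥(Cfsg.reflectionSubgroup (⇑Q) c) := fun g => Function.invFunOn mk C (e g)
  have hmem : ∀ g, g ∈ E ↔ e g ∈ mk '' C := fun g => by
    rw [show mk '' C = e '' E from he.symm, Function.Injective.mem_set_image e.injective]
  have hf : ∀ g ∈ E, f g ∈ C ∧ mk (f g) = e g := fun g hg => Function.invFunOn_pos ((hmem g).1 hg)
  have hf' : ∀ x ∈ C, ∀ g, e g = mk x → f g = x := fun x hx g hg => by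
    have hgE : g ∈ E := (hmem g).2 ⟨x, hx, hg.symm⟩
    exact hinj (hf g hgE).1 hx ((hf g hgE).2.trans hg)
  refine ⟨_, hrt.pullback f ?_ ?_ ?_ ?_⟩
  · refine Set.Subset.antisymm (by rintro _ ⟨g, hg, rfl⟩; exact (hf g hg).1) fun x hx => ?_
    exact ⟨e.symm (mk x), (hmem _).2 ⟨x, hx, (e.apply_symm_apply _).symm⟩,
      hf' x hx _ (e.apply_symm_apply _)⟩
  · intro g hg g' hg' h
    exact e.injective (by rw [← (hf g hg).2, ← (hf g' hg').2, h])
  · intro g hg g' hg'
    rw [← Basic.commute_mk_iff hT.1 (hf g hg).1 (hf g' hg').1]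
    show _ ↔ Commute (mk (f g)) (mk (f g'))
    rw [(hf g hg).2, (hf g' hg').2]
    exact ⟨fun q => q.map e, fun q => e.injective (by rw [map_mul, map_mul, q.eq])⟩
  · intro g hg g' hg'
    have hx := hrt.closed _ (hf g hg).1 _ (hf g' hg').1
    have hx' : e (g * g' * g) = mk (f g * f g' * f g) := by
      rw [map_mul, map_mul, ← (hf g hg).2, ← (hf g' hg').2]; rfl
    exact ⟨(hmem _).2 ⟨_, hx, hx'.symm⟩, hf' _ hx _ hx'⟩

end OfIso

section Perp

open Cfsg.Agent.Lib.FischerMTypes.Primitive Cfsg.Agent.Lib.FischerMTypes.Unique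

variable {G : Type u} [Group G] [Finite G] {D : Set G}

/-- A model of the local class is one of the perp set. -/
theorem exists_pts_perp (hP : FischerThm.Prim D) {d : G} (hd : d ∈ D) (hn : 5 ≤ n)
    (h : FischerThm.IsOrth3With (FischerThm.perpClass D d) Q c) : ∃ rt, Pts (perp D d) Q c rt := by
  classical
  obtain ⟨rt, hrt⟩ := IsOrth3With.exists_pts ((nondeg_iff Q).1 h.1) hn h.2.1 h
  let f : G → ↥(Subgroup.closure (perp D d)) ⧸ Subgroup.center ↥(Subgroup.closure (perp D d)) :=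
    fun x => if hx : x ∈ Subgroup.closure (perp D d) then QuotientGroup.mk ⟨x, hx⟩ else 1
  have hf : ∀ x (hx : x ∈ perp D d), f x = im D d hx := fun x hx => dif_pos (Subgroup.subset_closure hx)
  have hcl := perp_closed hP.hD d
  refine ⟨_, hrt.pullback f ?_ ?_ ?_ ?_⟩
  · refine Set.Subset.antisymm ?_ ?_
    · rintro _ ⟨x, hx, rfl⟩
      exact ⟨⟨x, Subgroup.subset_closure hx⟩, hx, (hf x hx).symm⟩
    · rintro _ ⟨x, hx, rfl⟩
      exact ⟨x, hx, hf x hx⟩
  · intro x hx y hy h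
    rw [hf x hx, hf y hy] at h
    exact im_injective hP.hD hP.hprim hP.hZ hd hx hy h
  · intro x hx y hy
    rw [hf x hx, hf y hy]
    exact (im_commute_iff hP.hD hx hy).symm
  · intro x hx y hy
    have hz := hcl.2 x hx y hy
    exact ⟨hz, by rw [hf x hx, hf y hy, hf _ hz]; rfl⟩

end Perp

end Cfsg.Agent.Lib.FischerOrthModels51
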