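import Cfsg.Prelude.Def_FischerSpaces
import Cfsg.Agent.Lib.ThreeTranspositions.ReflectThree

/-!
# Point models over three elements (Fischer node E)

`HasPts E` says that the members of `E` correspond to the points of one non-zero norm of a
non-degenerate space of dimension at least five over three elements, commuting to orthogonality and
conjugation to reflection.
-/

set_option autoImplicit false

universe u v

namespace Cfsg.Agent.Lib.FischerOrthModels51

open QuadraticMap Cfsg.Agent.Lib.Forms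

/-- `rt` identifies `E` with the points of norm `c` of `Q`. -/
structure Pts {X : Type u} [Group X] {n : ℕ} (E : Set X) (Q : QuadraticForm (ZMod 3) (Fin n → ZMod 3))
    (c : ZMod 3) (rt : X → Fin n → ZMod 3) : Prop where
  norm : ∀ e ∈ E, Q (rt e) = c
  surj : ∀ v, Q v = c → ∃ e ∈ E, rt e = v ∨ rt e = -v
  inj : ∀ e ∈ E, ∀ e' ∈ E, (rt e' = rt e ∨ rt e' = -rt e) → e' = e
  comm : ∀ e ∈ E, ∀ e' ∈ E, e ≠ e' → (Commute e e' ↔ polar Q (rt e) (rt e') = 0)
  closed : ∀ e ∈ E, ∀ e' ∈ E, e * e' * e ∈ E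
  conj : ∀ e ∈ E, ∀ e' ∈ E,
    rt (e * e' * e) = (orefl Q (rt e)).1 (rt e') ∨ rt (e * e' * e) = -(orefl Q (rt e)).1 (rt e')

/-- Some orthogonal model of dimension at least five. -/
def HasPts {X : Type u} [Group X] (E : Set X) : Prop :=
  ∃ (n : ℕ) (_ : 5 ≤ n) (Q : QuadraticForm (ZMod 3) (Fin n → ZMod 3))
    (_ : (QuadraticMap.polarBilin Q).Nondegenerate) (c : ZMod 3) (_ : c ≠ 0) (rt : X → Fin n → ZMod 3),
    Pts E Q c rt

variable {X : Type u} [Group X] {Y : Type v} [Group Y]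

/-- Pull a model back along a map which carries `E` onto `F` one to one. -/
theorem Pts.pullback {n : ℕ} {F : Set Y} {Q : QuadraticForm (ZMod 3) (Fin n → ZMod 3)} {c : ZMod 3}
    {rt : Y → Fin n → ZMod 3} (h : Pts F Q c rt) {E : Set X} (f : X → Y) (himg : f '' E = F)
    (hinj : ∀ e ∈ E, ∀ e' ∈ E, f e = f e' → e = e')
    (hcomm : ∀ e ∈ E, ∀ e' ∈ E, Commute e e' ↔ Commute (f e) (f e'))
    (hconj : ∀ e ∈ E, ∀ e' ∈ E, e * e' * e ∈ E ∧ f (e * e' * e) = f e * f e' * f e) :
    Pts E Q c fun x => rt (f x) := by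
  have hm : ∀ e ∈ E, f e ∈ F := fun e he => himg ▸ ⟨e, he, rfl⟩
  refine ⟨fun e he => h.norm _ (hm e he), fun v hv => ?_, fun e he e' he' hee => ?_,
    fun e he e' he' hne => ?_, fun e he e' he' => (hconj e he e' he').1, fun e he e' he' => ?_⟩
  · obtain ⟨y, hy, hyv⟩ := h.surj v hv
    rw [← himg] at hy
    obtain ⟨e, he, rfl⟩ := hy
    exact ⟨e, he, hyv⟩
  · exact hinj _ he' _ he (h.inj _ (hm e he) _ (hm e' he') hee)
  · rw [hcomm e he e' he']
    exact h.comm _ (hm e he) _ (hm e' he') fun q => hne (hinj _ he _ he' q)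
  · show rt (f (e * e' * e)) = _ ∨ rt (f (e * e' * e)) = _
    rw [(hconj e he e' he').2]
    exact h.conj _ (hm e he) _ (hm e' he')

/-- The same model for an isomorphic pair. -/
theorem HasPts.of_mulEquiv {F : Set Y} (h : HasPts F) {E : Set X} (f : X ≃* Y) (himg : f '' E = F) :
    HasPts E := by
  obtain ⟨n, hn, Q, hQ, c, hc, rt, hp⟩ := h
  have hmem : ∀ x, x ∈ E ↔ f x ∈ F := fun x => by
    rw [← himg, Function.Injective.mem_set_image f.injective]
  refine ⟨n, hn, Q, hQ, c, hc, _, hp.pullback f himg (fun e _ e' _ => fun q => f.injective q)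
    (fun e _ e' _ => ⟨fun q => q.map f, fun q => f.injective (by rw [map_mul, map_mul, q.eq])⟩)
    fun e he e' he' => ?_⟩
  have := hp.closed _ ((hmem e).1 he) _ ((hmem e').1 he')
  rw [← map_mul, ← map_mul] at this ⊢
  exact ⟨(hmem _).2 this, rfl⟩

/-- Pull a model back to a set mapped onto `F` by a homomorphism which is one to one on it. -/
theorem HasPts.of_hom {F : Set Y} (h : HasPts F) {E : Set X} (f : X →* Y) (himg : f '' E = F)
    (hinj : ∀ e ∈ E, ∀ e' ∈ E, f e = f e' → e = e')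
    (hclosed : ∀ e ∈ E, ∀ e' ∈ E, e * e' * e ∈ E)
    (hcomm : ∀ e ∈ E, ∀ e' ∈ E, Commute (f e) (f e') → Commute e e') : HasPts E := by
  obtain ⟨n, hn, Q, hQ, c, hc, rt, hp⟩ := h
  exact ⟨n, hn, Q, hQ, c, hc, _, hp.pullback f himg hinj
    (fun e he e' he' => ⟨fun q => q.map f, hcomm e he e' he'⟩)
    fun e he e' he' => ⟨hclosed e he e' he', by rw [map_mul, map_mul]⟩⟩

/-- The five squares. -/
noncomputable def Q5 : QuadraticForm (ZMod 3) (Fin 5 → ZMod 3) :=
  QuadraticMap.weightedSumSquares (ZMod 3) fun _ : Fin 5 => (1 : ZMod 3)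

/-- The five squares, for computation. -/
def q5 (v : Fin 5 → ZMod 3) : ZMod 3 := v 0 * v 0 + v 1 * v 1 + v 2 * v 2 + v 3 * v 3 + v 4 * v 4

/-- The polar form of the five squares. -/
def b5 (u v : Fin 5 → ZMod 3) : ZMod 3 :=
  2 * (u 0 * v 0 + u 1 * v 1 + u 2 * v 2 + u 3 * v 3 + u 4 * v 4)

theorem Q5_apply (v : Fin 5 → ZMod 3) : Q5 v = q5 v := by
  simp [Q5, q5, QuadraticMap.weightedSumSquares_apply, Fin.sum_univ_five]

theorem Q5_polar (u v : Fin 5 → ZMod 3) : polar Q5 u v = b5 u v := by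
  simp only [polar, Q5_apply, q5, b5, Pi.add_apply]
  ring

theorem Q5_nondeg : (QuadraticMap.polarBilin Q5).Nondegenerate := by
  have key : ∀ u : Fin 5 → ZMod 3, (∀ v, polar Q5 u v = 0) → u = 0 := fun u h => by
    funext i
    have h2 := h (Pi.single i 1)
    rw [Q5_polar, b5] at h2
    have h4 : ∀ a : ZMod 3, 2 * a = 0 → a = 0 := by decide
    refine h4 (u i) (h2 ▸ ?_)
    fin_cases i <;> simp
  refine ⟨fun u h => key u h, fun u h => key u fun v => ?_⟩
  rw [polar_comm]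
  exact h v

/-- The reflection, for computation. -/
def r5 (c : ZMod 3) (u x : Fin 5 → ZMod 3) : Fin 5 → ZMod 3 := x - (c * b5 u x) • u

theorem orefl_eq {c : ZMod 3} {u : Fin 5 → ZMod 3} (hc : c ≠ 0) (hu : Q5 u = c)
    (x : Fin 5 → ZMod 3) : (orefl Q5 u).1 x = r5 c u x := by
  rw [ThreeTranspositions.ReflectThree.orefl_apply, hu, Q5_polar, r5,
    inv_eq_of_mul_eq_one_right (ThreeTranspositions.ReflectThree.sq_eq_one c hc)]

/-- The coordinates stored in five base four digits. -/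
def digits (k : ℕ) : Fin 5 → ZMod 3 :=
  fun i => ((k / 4 ^ (i : ℕ)) % 4 : ℕ)

end Cfsg.Agent.Lib.FischerOrthModels51
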