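/-!
# Tables for the small orthogonal models (Fischer node E)

Points of norm `-1`, resp. `1`, of the sum of five squares over three elements, in base four with five
digits, indexed by the vectors of `O⁻(6,2)`, resp. the isotropic points of the unitary space `F₄⁴`; and
the third point of two isotropic points.
-/

set_option autoImplicit false

namespace Cfsg.Agent.Lib.FischerOrthModels51

/-- roots for the vectors of the six-dimensional space over two elements -/
def oD : Nat := 0x994000016500000a95a500210001101400524009964000015900000a6599002040010411011210216a400002a9000005a669002010010110414204240029565400556550000090000500000000000000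

/-- roots for the 45 isotropic points -/
def uD : Nat := 0x9985551454a591651514691545962629a249568529a84652a440a92646901065164a50040051961561866859862592691495496465455100

/-- third points -/
def tD : Nat := 0x2caab9a80690a48d88447d028734f52215621931225e68e6d32dd4557065e00e59c0aabb009679a80630d78097923c735362110c2197512dc39a55029f51b1855a20a4a6bb2aa429009678e215644b74d3c75435e064c20a7d06ce714792253686844628066980aa99e8b250a318c3d57847162916096df1531d93a040d84b697212894743901aec9429e8a41ae48cf18c0d47496d841a5cb55e10e1d989236058a7084611537ea98006b928a67980aa330f19f1535cb69229c58351d64e1e144d89b60921081e1150ac969ac0b019e69258e24ca20e3d26c45c664d54985c15075e58c2e051f1d845a0c2a2a0a8aa9ac09259a326154f20e0d169634666050b49b11f7583132a27875c541cb019ec0670a8aa59a48d42e038f21c1506193462a24c345a79f5cc85525d1d66c44a9ac0b2baa9a279a59234124566174d550f79d7db69c8608991881c314434c38a24b0810180ea18f32625442282171e05f09a66c5c5564288363a0e4672d39521e9584adb740b1714c18f4e52d28218806dd71e05912b5895268c8367390a64295447a2a60309a7c4ad63cc18a5644618a07c26806dd6580ea94b4cd8c8a4e4a85262501e716c5de05cb094550e720f39670081f75e89b0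991cc8e95054aa2a590d5cb42b998193128681850acba5414e20f6226c275e7c185a6631cc1284c946c926356a8a4a55c69d50e0700292a84a133ce21706169e7dd7008193231d50e7acb42694d611b09916185a540a26c73cda495d20e44df84088175c69b6589ca18e8e6445ad4a8c2d6a08b154049427a03473d6a0b99115509e81f84069b719257a6318e12542a4ec32729822b52448388174f3472989c495052205d09e81b71a6682d63a31920e4b15acc5e9248a9316645f8405135514125d660f8a181f79d71b69992696ab2b9e9a231c62040c530e3492ca081022ac3a5a2863597ac1201e331c2689185974940550903ce95d2e76c87e6161a914c0161a89a1c64635d8ab0cc1e39db2e659760045349404f3a47da2a921e96c12009056c1206cb9cd6467c586a8cc1caa5a9576165424004533ce99ea1c2487648ab0d405220c65fa039a029b88996911d1a33aa4805954d461108f68dacb921b077057a74015d920c15e9c99626a484b7e80ce1a3b184424d45415d03dc36a80a9ab1dba4475648031922911d84b91c2a68057a78ce1ab05741455348058f6cdb25889a8769fa0309846c74a1ce65c9438488cd7c9ae611a9d55c06014d24113e880c2ea7a2a4615b90251626b7d91ce15b9203488ea78b7250e90945955c041148f9e231d2ac8681a611a6014de2ea3991e611a8a33482ac7456e4a180530945914903e984cadf2609c67250d55c069c6e08a175f799a27a65926aeab2361759551349140f20718510338d30b2890810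2caea41245e75f1a28609269544d51d85d669c6e89e920e30d00204f6631440ca24b6da729a275985c845049f79daacac696499551382284730d3810028cf64510324b2935548608a69641e7a685d661c6da21d7deaeab1245018d38c0810198cf1440cb289b107a959b9938438a451fa917275c461aa1582549dac500108b24a20718f66330d39dad26a862095515386641eb166e90e75dc9148aa45f10200124a2c81c68cf64e30d45fa9772752290495582b49da186856e95a19937ac40304200a2c92071998cf34e315513a689df79d3524509a591c6da3185d6b2baa286038f8d92ca2481870020440c571b6924509a590c8a18185d6b2ba8e7de755513a689cd64f8cb2891872010020c512caea8a18185d63a9a277de75551336696471b69245032364f2ca2472060810051035eb854a1e4656ca5aa8139dd42468962c895a5f4a670b38d30f8d90010850c41872205aa7539da42426262c7d5a5c4a62e15eb794a1b46528e34c64f8c20010c4148187b226297d599c48bae15e879495b44aaa05a775391a40938d32364f0420041431c81a5ae892a9e6b298db85e6a075c89f6515d44164d26153ca24b30e3440c51881c20019e4aa99aca25ae375a81f72279b8594d05954985115cf24b28d30e0c51071880010aca66ae896a9e48e27dc85e6e075a6585525d44564d03cb28938d305103207181080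

end Cfsg.Agent.Lib.FischerOrthModels51
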