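import Cfsg.Agent.Lib.FischerOrthModels51.Iso
import Cfsg.Agent.Lib.FischerOrthModels51.Data
import Cfsg.Agent.Lib.U42.Main
import Cfsg.Agent.S1631

/-!
# `U₄(2)` as a reflection group mod 3

The 45 transvections of `SU(4,2)` correspond to the 45 points of norm `1` of the sum of five squares
over three elements (checked on the table).
-/

set_option autoImplicit false
set_option maxHeartbeats 1000000

namespace Cfsg.Agent.Lib.FischerOrthModels51

open Cfsg Cfsg.Agent.Lib.UnitaryFour.Transvection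
open Cfsg.Agent.Lib.U42 (K4 vVec herm4)

namespace Un

/-- the point of the `s`-th isotropic point -/
def uroot (s : Fin 45) : Fin 5 → ZMod 3 := digits ((uD >>> (10 * s.val)) % 1024)

/-- the third point of the line of two -/
def third (s t : Fin 45) : Fin 45 :=
  ⟨(tD >>> (6 * (45 * s.val + t.val))) % 64 % 45, Nat.mod_lt _ (by norm_num)⟩

theorem norm_check : ∀ s : Fin 45,
    q5 (uroot s) = 1 ∧ vVec s ≠ 0 ∧ herm4 (vVec s) (vVec s) = 0 := by decide +kernel

theorem surj_check : ∀ x : Fin 5 → ZMod 3, q5 x = 1 → ∃ s, uroot s = x ∨ uroot s = -x := by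
  decide +kernel

theorem pair_check : ∀ s t : Fin 45,
    ((uroot t = uroot s ∨ uroot t = -uroot s) → t = s) ∧
    ((∃ a : K4, vVec t = a • vVec s) → t = s) ∧
    (s ≠ t → (herm4 (vVec t) (vVec s) = 0 ↔ b5 (uroot s) (uroot t) = 0)) ∧
    (s ≠ t → third s t = t → herm4 (vVec t) (vVec s) = 0) ∧
    (∃ a : K4, a ≠ 0 ∧ vVec t + herm4 (vVec t) (vVec s) • vVec s = a • vVec (third s t)) ∧
    (uroot (third s t) = r5 1 (uroot s) (uroot t) ∨ uroot (third s t) = -r5 1 (uroot s) (uroot t)) := by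
  decide +kernel

variable {F : Type} [Field F] [Fintype F] [DecidableEq F] (hF : Fintype.card F = 2 ^ 2) (e : K4 ≃+* F)

/-- the `s`-th isotropic point -/
def pt (s : Fin 45) : Fin 4 → F := e ∘ vVec s

theorem pt_iso (s : Fin 45) : hermForm 4 F 2 (pt e s) (pt e s) = 0 := by
  rw [pt, U42.herm_map, (norm_check s).2.2, map_zero]

theorem pt_ne (s : Fin 45) : pt e s ≠ 0 := fun h => (norm_check s).2.1 (funext fun l =>
  e.injective (by rw [Pi.zero_apply, map_zero]; exact congrFun h l))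

/-- the `s`-th transvection -/
def tvs (s : Fin 45) : ↥(SU 4 F 2) := tv hF (pt e s) (pt_iso e s)

/-- the transvections -/
abbrev E : Set ↥(SU 4 F 2) :=
  {g | (((g : Matrix.SpecialLinearGroup (Fin 4) F) : Matrix (Fin 4) (Fin 4) F) - 1).rank = 1}

theorem tvs_mem (s : Fin 45) : tvs hF e s ∈ E (F := F) := S1631.rank_tv hF _ (pt_ne e s)

theorem smul_map (a : K4) (v : Fin 4 → K4) : e ∘ (a • v) = e a • (e ∘ v) := funext fun l => map_mul e a (v l)

theorem exists_idx {g : ↥(SU 4 F 2)} (hg : g ∈ E (F := F)) : ∃ s, g = tvs hF e s := by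
  obtain ⟨w, hw, hw0, rfl⟩ := S1631.exists_tv_of_rank hF g hg
  have hee : e ∘ (e.symm ∘ w) = w := funext fun l => e.apply_symm_apply (w l)
  have h0 : herm4 (e.symm ∘ w) (e.symm ∘ w) = 0 := e.injective (by
    rw [← U42.herm_map, hee, map_zero, hw])
  rcases U42.chk_iso _ h0 with h | ⟨s, a, ha, hs⟩
  · exact absurd (funext fun l => e.symm.injective (by
      rw [Pi.zero_apply, map_zero]; exact congrFun h l)) hw0
  · have hw' : w = e a • pt e s := by rw [pt, ← smul_map, ← hs, hee]
    subst hw'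
    exact ⟨s, tv_smul hF (pt_iso e s) (fun h => ha (e.injective (by rw [h, map_zero]))) hw⟩

theorem tvs_inj {s t : Fin 45} (h : tvs hF e s = tvs hF e t) : t = s := by
  refine (pair_check s t).2.1 ?_
  obtain ⟨x, hx⟩ : ∃ x, hermForm 4 F 2 x (pt e t) ≠ 0 := by
    by_contra hc
    push Not at hc
    exact pt_ne e t (Unitary.herm_nondeg_right hF hc)
  have h1 := congrArg (fun g => act g x) h
  simp only [tvs, act_tv, add_right_inj] at h1
  refine ⟨e.symm ((hermForm 4 F 2 x (pt e t))⁻¹ * hermForm 4 F 2 x (pt e s)),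
    funext fun l => e.injective ?_⟩
  rw [Pi.smul_apply, smul_eq_mul, map_mul, e.apply_symm_apply, mul_assoc]
  have h2 : hermForm 4 F 2 x (pt e s) * pt e s l = hermForm 4 F 2 x (pt e t) * pt e t l := congrFun h1 l
  show pt e t l = _ * (_ * pt e s l)
  rw [h2, ← mul_assoc, inv_mul_cancel₀ hx, one_mul]

theorem tvs_conj (s t : Fin 45) : tvs hF e s * tvs hF e t * tvs hF e s = tvs hF e (third s t) := by
  have hz : hermForm 4 F 2 (act (tvs hF e s) (pt e t)) (act (tvs hF e s) (pt e t)) = 0 := by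
    rw [act_herm, pt_iso]
  have h := tv_conj hF (tvs hF e s) (pt_iso e t) hz
  rw [show (tvs hF e s)⁻¹ = tvs hF e s from inv_eq_of_mul_eq_one_right (tv_mul_self hF _)] at h
  obtain ⟨a, ha, hat⟩ := (pair_check s t).2.2.2.2.1
  have hv : act (tvs hF e s) (pt e t) = e a • pt e (third s t) := by
    rw [tvs, act_tv, pt, pt, pt, U42.herm_map, ← smul_map, ← smul_map, ← hat]
    funext l
    exact (map_add e _ _).symm
  have hz' := hz
  rw [hv] at hz'
  calc tvs hF e s * tvs hF e t * tvs hF e s = tv hF (act (tvs hF e s) (pt e t)) hz := h.symm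
    _ = tv hF (e a • pt e (third s t)) hz' := tv_eq_of_eq hF hv hz hz'
    _ = _ := tv_smul hF (pt_iso e _) (fun h => ha (e.injective (by rw [h, map_zero]))) hz'

theorem tvs_commute {s t : Fin 45} (hne : s ≠ t) :
    Commute (tvs hF e s) (tvs hF e t) ↔ b5 (uroot s) (uroot t) = 0 := by
  rw [← (pair_check s t).2.2.1 hne]
  refine ⟨fun h => (pair_check s t).2.2.2.1 hne (tvs_inj hF e ?_), fun h => ?_⟩
  · rw [← tvs_conj, h.eq, mul_assoc, show tvs hF e s * tvs hF e s = 1 from tv_mul_self hF _, mul_one]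
  · refine (tv_comm hF (pt_iso e t) (pt_iso e s) ?_).symm
    rw [pt, pt, U42.herm_map, h, map_zero]

include hF in
theorem exists_pts (e : K4 ≃+* F) : ∃ rt, Pts (E (F := F)) Q5 1 rt := by
  classical
  have hex : ∀ g : ↥(SU 4 F 2), ∃ s, g ∈ E (F := F) → g = tvs hF e s := fun g => by
    by_cases h : g ∈ E (F := F)
    · obtain ⟨s, hs⟩ := exists_idx hF e h; exact ⟨s, fun _ => hs⟩
    · exact ⟨0, fun h' => absurd h' h⟩
  choose w hw using hex
  have hwt : ∀ s, w (tvs hF e s) = s := fun s => tvs_inj hF e (hw _ (tvs_mem hF e s))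
  refine ⟨fun g => uroot (w g), fun g _ => ?_, fun x hx => ?_, fun g hg g' hg' h => ?_,
    fun g hg g' hg' hne => ?_, fun g hg g' hg' => ?_, fun g hg g' hg' => ?_⟩
  · rw [Q5_apply]; exact (norm_check _).1
  · rw [Q5_apply] at hx
    obtain ⟨s, hs⟩ := surj_check x hx
    refine ⟨_, tvs_mem hF e s, ?_⟩
    show uroot (w _) = x ∨ uroot (w _) = -x
    rw [hwt]; exact hs
  · rw [hw g hg, hw g' hg', (pair_check _ _).1 h]
  · show _ ↔ QuadraticMap.polar Q5 (uroot (w g)) (uroot (w g')) = 0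
    rw [Q5_polar, ← tvs_commute hF e fun h => hne (by rw [hw g hg, hw g' hg', h]), ← hw g hg, ← hw g' hg']
  · rw [hw g hg, hw g' hg', tvs_conj]
    exact tvs_mem hF e _
  · show uroot (w _) = _ ∨ uroot (w _) = _
    rw [show w (g * g' * g) = third (w g) (w g') by
      conv_lhs => rw [hw g hg, hw g' hg', tvs_conj, hwt]]
    rw [orefl_eq (show (1 : ZMod 3) ≠ 0 by decide) (by rw [Q5_apply]; exact (norm_check _).1)]
    exact (pair_check _ _).2.2.2.2.2

include hF in
theorem center_eq_bot : Subgroup.center ↥(SU 4 F 2) = ⊥ := by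
  refine le_bot_iff.1 fun z hz => ?_
  obtain ⟨l, hl⟩ := (Unitary.mem_center_SU_iff hF (by norm_num) z).1 hz
  have hm : z.1.1 = l • (1 : Matrix (Fin 4) (Fin 4) F) := Matrix.toLin'.injective (LinearMap.ext fun x => by
    simp only [Matrix.toLin'_apply, hl x, Matrix.smul_mulVec, Matrix.one_mulVec])
  have h4 : l ^ 4 = 1 := by
    have := z.1.2
    rw [hm, Matrix.det_smul, Matrix.det_one, mul_one, Fintype.card_fin] at this
    exact this
  have h0 : l ≠ 0 := fun h => by rw [h, zero_pow (by norm_num)] at h4; exact zero_ne_one h4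
  have h1 : l = 1 := by
    rw [show l ^ 4 = l * l ^ 3 by ring, cube_eq_one hF h0, mul_one] at h4
    exact h4
  refine Subgroup.mem_bot.2 (ext' fun x => ?_)
  rw [act_one, act_def, hl x, h1, one_smul]

/-- transvections of `U₄(2)` as projective reflections mod 3 -/
theorem isOrth3With {F : Type} [Field F] [Fintype F] (hF : Fintype.card F = 4) :
    FischerThm.IsOrth3With ((QuotientGroup.mk : ↥(SU 4 F 2) → PSU 4 F 2) '' {g : ↥(SU 4 F 2) |
      (((g : Matrix.SpecialLinearGroup (Fin 4) F) : Matrix (Fin 4) (Fin 4) F) - 1).rank = 1}) Q5 1 := by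
  classical
  have hF' : Fintype.card F = 2 ^ 2 := by rw [hF]; norm_num
  let e : K4 ≃+* F := FiniteField.ringEquivOfCardEq (U42.card_k4.trans hF.symm)
  obtain ⟨rt, hrt⟩ := exists_pts hF' e
  have hbot := center_eq_bot hF'
  obtain ⟨-, -, e0, he0⟩ := Pts.isOrth3With (E := E (F := F)) hrt
    (fun g hg => by obtain ⟨w, hw, -, rfl⟩ := S1631.exists_tv_of_rank hF' g hg; exact tv_mul_self hF' hw)
    (S1631.closure_tv hF' le_rfl) hbot Q5_nondeg (by decide)
  let f : PSU 4 F 2 ≃* ↥(SU 4 F 2) :=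
    (QuotientGroup.quotientMulEquivOfEq hbot).trans QuotientGroup.quotientBot
  have hf : ∀ x : ↥(SU 4 F 2), f (QuotientGroup.mk x) = x := fun x => rfl
  refine ⟨Q5_nondeg, by decide, f.trans e0, ?_⟩
  rw [Set.image_image]
  exact (Set.image_congr fun x _ => congrArg e0 (hf x)).trans he0

end Un

end Cfsg.Agent.Lib.FischerOrthModels51
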