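import Cfsg.Agent.Lib.FischerOrthModels51.OMinus
import Cfsg.Agent.Lib.FischerOrthModels51.Unitary

/-!
# Node S of Fischer's theorem: the exceptional isomorphisms

`O₆⁻(2)` and `U₄(2)` with their transvections are the projective reflection groups of the five squares
over three elements of norm `-1`, resp. `1`.
-/

set_option autoImplicit false

universe u

namespace Cfsg.Agent.Lib.FischerOrthModels51

/-- the class of an isomorphic pair -/
theorem isOrth3With_of_mulEquiv {G H : Type*} [Group G] [Group H] {n : ℕ}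
    {Q : QuadraticForm (ZMod 3) (Fin n → ZMod 3)} {c : ZMod 3} {D : Set G} {E : Set H} (e : G ≃* H)
    (he : e '' D = E) (h : FischerThm.IsOrth3With E Q c) : FischerThm.IsOrth3With D Q c := by
  obtain ⟨hQ, hc, f, hf⟩ := h
  refine ⟨hQ, hc, e.trans f, ?_⟩
  rw [← hf, ← he, MulEquiv.coe_trans, Set.image_comp]

theorem nodeS : FischerThm.NodeS.{u} := fun G _ _ D h => by
  rcases h with ⟨F, iF, iFin, hF, e, he⟩ | ⟨e, he⟩
  · exact ⟨Q5, 1, isOrth3With_of_mulEquiv e he (Un.isOrth3With hF)⟩
  · exact ⟨Q5, 2, isOrth3With_of_mulEquiv e he Om.isOrth3With⟩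

end Cfsg.Agent.Lib.FischerOrthModels51
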