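import Cfsg.Agent.Lib.FischerOrthModels51.Iso
import Cfsg.Agent.Lib.FischerOrthModels51.Data
import Cfsg.Agent.Lib.Forms.TwoTranspositions

/-!
# The orthogonal group of minus type in dimension six over two elements as a reflection group mod 3

Its transvections correspond to the 36 points of norm `-1` of the sum of five squares over three
elements, orthogonality to orthogonality and reflection to reflection (checked on the table).
-/

set_option autoImplicit false
set_option maxHeartbeats 1000000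

namespace Cfsg.Agent.Lib.FischerOrthModels51

open QuadraticMap Cfsg.Agent.Lib.Forms

namespace Om

/-- the coordinate space -/
abbrev V := (Fin 2 ⊕ Fin 2) ⊕ Fin 2 → ZMod 2

/-- the vector with a given code -/
def ov (k : ℕ) : V :=
  Sum.elim (Sum.elim ![((k % 2 : ℕ) : ZMod 2), ((k / 2 % 2 : ℕ) : ZMod 2)]
    ![((k / 4 % 2 : ℕ) : ZMod 2), ((k / 8 % 2 : ℕ) : ZMod 2)])
    ![((k / 16 % 2 : ℕ) : ZMod 2), ((k / 32 % 2 : ℕ) : ZMod 2)]

/-- the code from six bits -/
def code6 (a b c d e f : ZMod 2) : ℕ := a.val + 2 * b.val + 4 * c.val + 8 * d.val + 16 * e.val + 32 * f.val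

/-- the code of a vector -/
def code (v : V) : ℕ :=
  code6 (v (.inl (.inl 0))) (v (.inl (.inl 1))) (v (.inl (.inr 0))) (v (.inl (.inr 1))) (v (.inr 0)) (v (.inr 1))

theorem code6_spec : ∀ a b c d e f : ZMod 2, code6 a b c d e f < 64 ∧
    ((code6 a b c d e f % 2 : ℕ) : ZMod 2) = a ∧ ((code6 a b c d e f / 2 % 2 : ℕ) : ZMod 2) = b ∧
    ((code6 a b c d e f / 4 % 2 : ℕ) : ZMod 2) = c ∧ ((code6 a b c d e f / 8 % 2 : ℕ) : ZMod 2) = d ∧
    ((code6 a b c d e f / 16 % 2 : ℕ) : ZMod 2) = e ∧ ((code6 a b c d e f / 32 % 2 : ℕ) : ZMod 2) = f := by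
  decide +kernel

theorem code_lt (v : V) : code v < 64 := (code6_spec _ _ _ _ _ _).1

theorem ov_code (v : V) : ov (code v) = v := by
  obtain ⟨-, h0, h1, h2, h3, h4, h5⟩ := code6_spec (v (.inl (.inl 0))) (v (.inl (.inl 1)))
    (v (.inl (.inr 0))) (v (.inl (.inr 1))) (v (.inr 0)) (v (.inr 1))
  funext s
  rcases s with (i | i) | i <;> fin_cases i
  exacts [h0, h1, h2, h3, h4, h5]

/-- the form, for computation -/
def q2 (v : V) : ZMod 2 :=
  v (.inl (.inl 0)) * v (.inl (.inr 0)) + v (.inl (.inl 1)) * v (.inl (.inr 1)) +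
    (v (.inr 0) * v (.inr 0) + v (.inr 0) * v (.inr 1) + v (.inr 1) * v (.inr 1))

/-- its polar form, for computation -/
def b2 (u v : V) : ZMod 2 := q2 (u + v) - q2 u - q2 v

/-- the point of a vector -/
def root (v : V) : Fin 5 → ZMod 3 := digits ((oD >>> (10 * code v)) % 1024)

theorem norm_check : ∀ k : Fin 64, q2 (ov k) ≠ 0 → q5 (root (ov k)) = 2 := by decide +kernel

theorem surj_check : ∀ x : Fin 5 → ZMod 3, q5 x = 2 →
    ∃ k : Fin 64, q2 (ov k) ≠ 0 ∧ (root (ov k) = x ∨ root (ov k) = -x) := by decide +kernel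

theorem pair_check : ∀ k l : Fin 64, q2 (ov k) ≠ 0 → q2 (ov l) ≠ 0 →
    ((root (ov l) = root (ov k) ∨ root (ov l) = -root (ov k)) → code (ov l) = code (ov k)) ∧
    (k ≠ l → (b2 (ov k) (ov l) = 0 ↔ b5 (root (ov k)) (root (ov l)) = 0)) ∧
    (root (ov l + b2 (ov k) (ov l) • ov k) = r5 2 (root (ov k)) (root (ov l)) ∨
      root (ov l + b2 (ov k) (ov l) • ov k) = -r5 2 (root (ov k)) (root (ov l))) := by
  decide +kernel

theorem span_check : ∀ k : Fin 64, ov k = 0 ∨ q2 (ov k) ≠ 0 ∨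
    ∃ l : Fin 64, q2 (ov l) ≠ 0 ∧ q2 (ov k + ov l) ≠ 0 := by decide +kernel

/-- the form -/
noncomputable abbrev Q : QuadraticForm (ZMod 2) V := qMinus 2 1 1

theorem Q_eq (v : V) : Q v = q2 v := by
  rw [qMinus_apply]
  simp [Cfsg.quadFormMinus, q2, Fin.sum_univ_two, pow_two]

theorem polar_eq (u v : V) : polar Q u v = b2 u v := by simp only [polar, Q_eq, b2]

theorem Q_nondeg : Nondeg Q := qMinus_nondeg 2 (by decide)

theorem h1 : ∀ a : ZMod 2, a ≠ 0 → a = 1 := by decide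

theorem orefl_two {u : V} (hu : Q u ≠ 0) (x : V) : (orefl Q u).1 x = x + b2 u x • u := by
  rw [← polar_eq]; exact TwoTranspositions.refl_two h1 hu x

theorem orefl_inj {u v : V} (hu : Q u ≠ 0) (hv : Q v ≠ 0) (h : orefl Q u = orefl Q v) : u = v := by
  have hu0 : u ≠ 0 := fun h => hu (by rw [h, QuadraticMap.map_zero])
  obtain ⟨x, hx⟩ : ∃ x, polar Q u x ≠ 0 := by
    by_contra hc
    push Not at hc
    exact hu0 (Q_nondeg u hc)
  have e := congrArg (fun g : orth Q => g.1 x) h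
  simp only [orefl_two hu, orefl_two hv, add_right_inj] at e
  rw [← polar_eq, h1 _ hx, one_smul] at e
  by_cases hb : b2 v x = 0
  · rw [hb, zero_smul] at e; exact absurd e hu0
  · rw [h1 _ hb, one_smul] at e; exact e

theorem commute_iff {u v : V} (hu : Q u ≠ 0) (hv : Q v ≠ 0) :
    Commute (orefl Q u) (orefl Q v) ↔ b2 u v = 0 := by
  have hc := TwoTranspositions.orefl_conj (Q := Q) (orefl Q u) v
  constructor
  · intro h
    rw [h.eq, mul_inv_cancel_right] at hc
    have hv' : Q ((orefl Q u).1 v) ≠ 0 := by rw [(orefl Q u).2 v]; exact hv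
    have e := orefl_inj hv hv' hc
    rw [orefl_two hu, left_eq_add, smul_eq_zero] at e
    exact e.resolve_right fun h0 => hu (by rw [h0, QuadraticMap.map_zero])
  · intro h
    rw [orefl_two hu, h, zero_smul, add_zero] at hc
    exact mul_inv_eq_iff_eq_mul.1 hc

/-- reflections in non-singular vectors -/
abbrev E : Set (orth Q) := {g | ∃ v, Q v ≠ 0 ∧ g = orefl Q v}

theorem exists_pts : ∃ rt, Pts E Q5 2 rt := by
  classical
  have hex : ∀ g : orth Q, ∃ v, g ∈ E → Q v ≠ 0 ∧ g = orefl Q v := fun g => by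
    by_cases h : g ∈ E
    · obtain ⟨v, hv⟩ := h; exact ⟨v, fun _ => hv⟩
    · exact ⟨0, fun h' => absurd h' h⟩
  choose w hw using hex
  have hq : ∀ g ∈ E, q2 (ov (⟨code (w g), code_lt _⟩ : Fin 64)) ≠ 0 := fun g hg => by
    simp only [ov_code]
    rw [← Q_eq]; exact (hw g hg).1
  have hconj : ∀ g ∈ E, ∀ g' ∈ E, Q (w g' + b2 (w g) (w g') • w g) ≠ 0 ∧
      g * g' * g = orefl Q (w g' + b2 (w g) (w g') • w g) := fun g hg g' hg' => by
    obtain ⟨hu, e⟩ := hw g hg
    obtain ⟨hv, e'⟩ := hw g' hg'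
    rw [← orefl_two hu, ← TwoTranspositions.orefl_conj, TwoTranspositions.orefl_inv, ← e, ← e']
    exact ⟨by rw [g.2]; exact hv, rfl⟩
  refine ⟨fun g => root (w g), fun g hg => ?_, fun x hx => ?_, fun g hg g' hg' h => ?_,
    fun g hg g' hg' hne => ?_, fun g hg g' hg' => ⟨_, hconj g hg g' hg'⟩, fun g hg g' hg' => ?_⟩
  · have := norm_check ⟨code (w g), code_lt _⟩ (hq g hg)
    simp only [ov_code] at this
    rw [Q5_apply]; exact this
  · rw [Q5_apply] at hx
    obtain ⟨k, hk, hkx⟩ := surj_check x hx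
    have hm : orefl Q (ov k) ∈ E := ⟨_, by rw [Q_eq]; exact hk, rfl⟩
    refine ⟨_, hm, ?_⟩
    show root (w _) = x ∨ root (w _) = -x
    rw [← orefl_inj (by rw [Q_eq]; exact hk) (hw _ hm).1 (hw _ hm).2]
    exact hkx
  · have := (pair_check ⟨code (w g), code_lt _⟩ ⟨code (w g'), code_lt _⟩ (hq g hg) (hq g' hg')).1
    simp only [ov_code] at this
    have e : w g' = w g := by rw [← ov_code (w g'), this h, ov_code]
    rw [(hw g hg).2, (hw g' hg').2, e]
  · have := (pair_check ⟨code (w g), code_lt _⟩ ⟨code (w g'), code_lt _⟩ (hq g hg) (hq g' hg')).2.1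
    simp only [ov_code] at this
    show _ ↔ polar Q5 (root (w g)) (root (w g')) = 0
    rw [Q5_polar, ← this fun e => hne ?_]
    · conv_lhs => rw [(hw g hg).2, (hw g' hg').2]
      exact commute_iff (hw g hg).1 (hw g' hg').1
    · have e' := congrArg (fun k : Fin 64 => ov k) e
      simp only [ov_code] at e'
      rw [(hw g hg).2, (hw g' hg').2, e']
  · have := (pair_check ⟨code (w g), code_lt _⟩ ⟨code (w g'), code_lt _⟩ (hq g hg) (hq g' hg')).2.2
    simp only [ov_code] at this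
    show root (w _) = _ ∨ root (w _) = _
    obtain ⟨hne0, he⟩ := hconj g hg g' hg'
    have hm : g * g' * g ∈ E := ⟨_, hne0, he⟩
    rw [orefl_inj (hw _ hm).1 hne0 ((hw _ hm).2.symm.trans he), orefl_eq (show (2 : ZMod 3) ≠ 0 by decide) ?_]
    · exact this
    · have h := norm_check ⟨code (w g), code_lt _⟩ (hq g hg)
      simp only [ov_code] at h
      rw [Q5_apply]; exact h

theorem center_eq_bot : Subgroup.center (orth Q) = ⊥ := by
  refine le_bot_iff.1 fun g hg => ?_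
  have hfix : ∀ v, q2 v ≠ 0 → g.1 v = v := fun v hv => by
    rw [← Q_eq] at hv
    have h := TwoTranspositions.orefl_conj (Q := Q) g v
    rw [← Subgroup.mem_center_iff.1 hg, mul_inv_cancel_right] at h
    exact (orefl_inj hv (by rw [g.2]; exact hv) h).symm
  refine Subgroup.mem_bot.2 (Subtype.ext (LinearEquiv.ext fun x => ?_))
  show g.1 x = x
  rcases span_check ⟨code x, code_lt _⟩ with h | h | ⟨l, hl, hl'⟩ <;> simp only [ov_code] at *
  · rw [h, map_zero]
  · exact hfix x h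
  · have h2 := hfix _ hl'
    rw [map_add, hfix _ hl, add_left_inj] at h2
    exact h2

/-- transvections of `O⁻(6,2)` as projective reflections mod 3 -/
theorem isOrth3With : FischerThm.IsOrth3With
    {g : ↥(Cfsg.isometryGroup (ZMod 2) (Cfsg.quadFormMinus 2 (ZMod 2) 1 1)) |
      (((g : GL ((Fin 2 ⊕ Fin 2) ⊕ Fin 2) (ZMod 2)) : Matrix ((Fin 2 ⊕ Fin 2) ⊕ Fin 2) ((Fin 2 ⊕ Fin 2) ⊕ Fin 2)
        (ZMod 2)) - 1).rank = 1} Q5 2 := by
  obtain ⟨rt, hrt⟩ := exists_pts
  obtain ⟨-, -, e0, he0⟩ := Pts.isOrth3With (E := E) hrt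
    (by rintro _ ⟨v, -, rfl⟩; exact TwoTranspositions.orefl_mul_self v)
    (closure_reflSet Q_nondeg (Or.inr (by simp))) center_eq_bot Q5_nondeg (by decide)
  have hf : ∀ v, Cfsg.quadFormMinus 2 (ZMod 2) 1 1 v = Q v := fun v => (qMinus_apply 2 1 1 v).symm
  refine ⟨Q5_nondeg, by decide, (isoOrth Q hf).trans e0, ?_⟩
  rw [MulEquiv.coe_trans, Set.image_comp]
  refine (congrArg (e0 '' ·) ?_).trans he0
  ext g
  have e : ∀ h : ↥(Cfsg.isometryGroup (ZMod 2) (Cfsg.quadFormMinus 2 (ZMod 2) 1 1)),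
      (((h : GL ((Fin 2 ⊕ Fin 2) ⊕ Fin 2) (ZMod 2)) : Matrix ((Fin 2 ⊕ Fin 2) ⊕ Fin 2) ((Fin 2 ⊕ Fin 2) ⊕ Fin 2)
        (ZMod 2)) - 1).mulVecLin = dev (isoOrth Q hf h).1 := fun h => by
    refine LinearMap.ext fun x => ?_
    rw [Matrix.mulVecLin_apply, Matrix.sub_mulVec, Matrix.one_mulVec, dev_apply, isoOrth_apply]
  constructor
  · rintro ⟨h, hh, rfl⟩
    have hh' : Matrix.rank _ = 1 := hh
    rw [Matrix.rank, e] at hh'
    exact TwoTranspositions.eq_orefl Q_nondeg h1 _ hh'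
  · rintro ⟨v, hv, rfl⟩
    refine ⟨(isoOrth Q hf).symm (orefl Q v), ?_, MulEquiv.apply_symm_apply _ _⟩
    show Matrix.rank _ = 1
    rw [Matrix.rank, e, MulEquiv.apply_symm_apply]
    exact TwoTranspositions.finrank_dev_orefl Q_nondeg hv

end Om

end Cfsg.Agent.Lib.FischerOrthModels51
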